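import Groth.Agent.AssFiber.Basic
import Mathlib

/-!
Endomorphisms of projective modules over a local ring which are injective modulo the maximal
ideal are universally injective; consequences for fibre modules.
-/

set_option autoImplicit false
set_option linter.style.haveILetI false

universe u v w

namespace Groth.Agent.FlatPureHx

open TensorProduct IsLocalRing

attribute [local instance] Algebra.TensorProduct.rightAlgebra

section Local

variable {R : Type u} [CommRing R]

theorem mem_smul_top_map {I : Ideal R} {M N : Type*} [AddCommGroup M] [Module R M] [AddCommGroup N]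
    [Module R N] (f : M →ₗ[R] N) {x : M} (h : x ∈ I • (⊤ : Submodule R M)) :
    f x ∈ I • (⊤ : Submodule R N) :=
  Submodule.smul_mono le_rfl le_top
    ((Submodule.map_smul'' I ⊤ f).le (Submodule.mem_map_of_mem h))

/-- The projection of free modules onto finitely many coordinates. -/
noncomputable def coordProj {ι : Type*} (s : Finset ι) : (ι →₀ R) →ₗ[R] (s →₀ R) :=
  Finsupp.lcomapDomain Subtype.val Subtype.val_injective

noncomputable def coordIncl {ι : Type*} (s : Finset ι) : (s →₀ R) →ₗ[R] (ι →₀ R) :=
  Finsupp.lmapDomain R R Subtype.val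

theorem coordProj_coordIncl {ι : Type*} (s : Finset ι) (y : s →₀ R) :
    coordProj s (coordIncl s y) = y :=
  Finsupp.comapDomain_mapDomain _ Subtype.val_injective y

theorem coordIncl_coordProj {ι : Type*} (s : Finset ι) (y : ι →₀ R) (hy : y.support ⊆ s) :
    coordIncl s (coordProj s y) = y :=
  Finsupp.mapDomain_comapDomain _ Subtype.val_injective y fun i hi => ⟨⟨i, hy hi⟩, rfl⟩

/-- Every element of `Q ⊗ (ι →₀ R)` is supported on finitely many coordinates. -/
theorem exists_coord {ι : Type*} (Q : Type*) [AddCommGroup Q] [Module R Q] (x : Q ⊗[R] (ι →₀ R)) :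
    ∃ s : Finset ι, ∀ t : Finset ι, s ⊆ t →
      (coordIncl t ∘ₗ coordProj t).lTensor Q x = x := by
  classical
  induction x with
  | zero => exact ⟨∅, fun _ _ => map_zero _⟩
  | tmul q g =>
    exact ⟨g.support, fun t ht => by
      rw [LinearMap.lTensor_tmul, LinearMap.comp_apply, coordIncl_coordProj t g ht]⟩
  | add a b ha hb =>
    obtain ⟨s, hs⟩ := ha; obtain ⟨s', hs'⟩ := hb
    exact ⟨s ∪ s', fun t ht => by
      rw [map_add, hs t (Finset.union_subset_left ht), hs' t (Finset.union_subset_right ht)]⟩

theorem injective_lTensor_residueField [IsLocalRing R] {M N : Type*} [AddCommGroup M] [Module R M]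
    [AddCommGroup N] [Module R N] (f : M →ₗ[R] N)
    (h : ∀ x, f x ∈ maximalIdeal R • (⊤ : Submodule R N) → x ∈ maximalIdeal R • (⊤ : Submodule R M)) :
    Function.Injective (f.lTensor (ResidueField R)) := by
  rw [injective_iff_map_eq_zero]
  intro z hz
  obtain ⟨x, rfl⟩ := TensorProduct.mk_surjective R M (ResidueField R) Ideal.Quotient.mk_surjective z
  rw [TensorProduct.mk_apply, LinearMap.lTensor_tmul] at hz
  have h1 : f x ∈ maximalIdeal R • (⊤ : Submodule R N) := by
    have : quotTensorEquivQuotSMul N (maximalIdeal R)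
        ((Ideal.Quotient.mk (maximalIdeal R) 1) ⊗ₜ[R] f x) = 0 :=
      (congrArg (quotTensorEquivQuotSMul N (maximalIdeal R)) hz).trans (map_zero _)
    rwa [quotTensorEquivQuotSMul_mk_tmul, one_smul, Submodule.Quotient.mk_eq_zero] at this
  have h2 := h x h1
  refine (quotTensorEquivQuotSMul M (maximalIdeal R)).injective (Eq.trans ?_ (map_zero _).symm)
  show quotTensorEquivQuotSMul M (maximalIdeal R) ((Ideal.Quotient.mk (maximalIdeal R) 1) ⊗ₜ[R] x) = 0
  rw [quotTensorEquivQuotSMul_mk_tmul, one_smul, Submodule.Quotient.mk_eq_zero]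
  exact h2

/-- Free case. -/
theorem injective_lTensor_of_free [IsLocalRing R] {ι : Type v} {κ : Type w}
    (f : (ι →₀ R) →ₗ[R] (κ →₀ R))
    (h : ∀ x, f x ∈ maximalIdeal R • (⊤ : Submodule R (κ →₀ R)) →
      x ∈ maximalIdeal R • (⊤ : Submodule R (ι →₀ R)))
    (Q : Type*) [AddCommGroup Q] [Module R Q] : Function.Injective (f.lTensor Q) := by
  classical
  rw [injective_iff_map_eq_zero]
  intro x hx
  obtain ⟨s, hs⟩ := exists_coord Q x
  have hsx := hs s subset_rfl
  let f₀ : (s →₀ R) →ₗ[R] (κ →₀ R) := f ∘ₗ coordIncl s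
  let t : Finset κ := Finset.univ.biUnion fun i : s => (f₀ (Finsupp.single i 1)).support
  have ht : coordIncl t ∘ₗ coordProj t ∘ₗ f₀ = f₀ := by
    refine Finsupp.lhom_ext fun i r => ?_
    rw [← Finsupp.smul_single_one, map_smul, map_smul]
    congr 1
    simp only [LinearMap.comp_apply]
    exact coordIncl_coordProj t _ fun k hk => Finset.mem_biUnion.2 ⟨i, Finset.mem_univ _, hk⟩
  have hmod : ∀ y, (coordProj t ∘ₗ f₀) y ∈ maximalIdeal R • (⊤ : Submodule R (t →₀ R)) →
      y ∈ maximalIdeal R • (⊤ : Submodule R (s →₀ R)) := by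
    intro y hy
    have h1 := mem_smul_top_map (coordIncl t) hy
    rw [show coordIncl t ((coordProj t ∘ₗ f₀) y) = f₀ y from DFunLike.congr_fun ht y] at h1
    have h2 := mem_smul_top_map (coordProj s) (h _ h1)
    rwa [coordProj_coordIncl] at h2
  obtain ⟨l, hl⟩ := (split_injective_iff_lTensor_residueField_injective _).2
    (injective_lTensor_residueField _ hmod)
  set y := (coordProj s).lTensor Q x with hy
  have hxy : (coordIncl s).lTensor Q y = x := by
    rw [hy, ← LinearMap.lTensor_comp_apply]; exact hsx
  have h0 : f₀.lTensor Q y = 0 := by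
    rw [LinearMap.lTensor_comp_apply, hxy, hx]
  have hy0 : y = 0 := by
    have : (l ∘ₗ coordProj t ∘ₗ f₀).lTensor Q y = 0 := by
      rw [LinearMap.lTensor_comp_apply, LinearMap.lTensor_comp_apply, h0, map_zero, map_zero]
    rwa [hl, LinearMap.lTensor_id_apply] at this
  rw [← hxy, hy0, map_zero]

/-- A map of projective modules over a local ring which is injective modulo the maximal ideal is
universally injective. -/
theorem injective_lTensor_of_projective [IsLocalRing R] {M : Type v} {N : Type w} [AddCommGroup M]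
    [Module R M] [AddCommGroup N] [Module R N] [hM : Module.Projective R M] [hN : Module.Projective R N]
    (f : M →ₗ[R] N)
    (h : ∀ x, f x ∈ maximalIdeal R • (⊤ : Submodule R N) → x ∈ maximalIdeal R • (⊤ : Submodule R M))
    (Q : Type*) [AddCommGroup Q] [Module R Q] : Function.Injective (f.lTensor Q) := by
  obtain ⟨i, hi⟩ := hM.out
  haveI : Module.Projective R (N × (M →₀ R)) := inferInstance
  obtain ⟨j, hj⟩ := (inferInstance : Module.Projective R (N × (M →₀ R))).out
  let p : (M →₀ R) →ₗ[R] M := Finsupp.linearCombination R id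
  let ψ : (M →₀ R) →ₗ[R] (N × (M →₀ R)) := (f ∘ₗ p).prod (LinearMap.id - i ∘ₗ p)
  have hψ : ∀ y, (j ∘ₗ ψ) y ∈ maximalIdeal R • (⊤ : Submodule R _) →
      y ∈ maximalIdeal R • (⊤ : Submodule R (M →₀ R)) := by
    intro y hy
    have h0 := mem_smul_top_map (Finsupp.linearCombination R (id : N × (M →₀ R) → _)) hy
    rw [LinearMap.comp_apply, hj (ψ y)] at h0
    have h1 : f (p y) ∈ maximalIdeal R • (⊤ : Submodule R N) := mem_smul_top_map (LinearMap.fst R _ _) h0
    have h2 : y - i (p y) ∈ maximalIdeal R • (⊤ : Submodule R (M →₀ R)) :=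
      mem_smul_top_map (LinearMap.snd R _ _) h0
    have h3 := mem_smul_top_map i (h _ h1)
    simpa using add_mem h2 h3
  have key := injective_lTensor_of_free (j ∘ₗ ψ) hψ Q
  rw [injective_iff_map_eq_zero]
  intro x hx
  have hid : (p ∘ₗ i) = LinearMap.id := LinearMap.ext hi
  have hψi : ψ ∘ₗ i = (LinearMap.inl R N (M →₀ R)) ∘ₗ f := by
    refine LinearMap.ext fun z => ?_
    simp [ψ, p, hi z]
  have : (i.lTensor Q) x = 0 := key (by
    rw [map_zero, ← LinearMap.lTensor_comp_apply, LinearMap.comp_assoc, hψi,
      LinearMap.lTensor_comp_apply, LinearMap.lTensor_comp_apply, hx, map_zero, map_zero])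
  have h' := congrArg (p.lTensor Q) this
  rwa [← LinearMap.lTensor_comp_apply, hid, LinearMap.lTensor_id_apply, map_zero] at h'

end Local

/-- Along a prime `t` of an arbitrary ring: an endomorphism of a projective module congruent to
multiplication by `a ∉ t` modulo `t` stays injective on `κ(t') ⊗ M` for `t' ≤ t`. -/
theorem injective_lTensor_residueField_of_le {A : Type u} [CommRing A] {M : Type u} [AddCommGroup M]
    [Module A M] [Module.Projective A M] (f : M →ₗ[A] M) (t t' : Ideal A) [t.IsPrime] [t'.IsPrime]
    (hle : t' ≤ t) (a : A) (ha : a ∉ t)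
    (hf : ∀ x, f x - a • x ∈ t • (⊤ : Submodule A M)) :
    Function.Injective (f.lTensor t'.ResidueField) := by
  classical
  let L := Localization.AtPrime t
  let φ : L →+* t'.ResidueField := IsLocalization.lift (M := t.primeCompl) (S := L)
    (g := algebraMap A t'.ResidueField) fun y => by
      rw [isUnit_iff_ne_zero, ne_eq, Ideal.algebraMap_residueField_eq_zero]
      exact fun hy => y.2 (hle hy)
  letI : Algebra L t'.ResidueField := φ.toAlgebra
  haveI : IsScalarTower A L t'.ResidueField := IsScalarTower.of_algebraMap_eq fun x =>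
    (IsLocalization.lift_eq (M := t.primeCompl) (S := L) _ x).symm
  have hmod : ∀ z, f.baseChange L z ∈ maximalIdeal L • (⊤ : Submodule L (L ⊗[A] M)) →
      z ∈ maximalIdeal L • (⊤ : Submodule L (L ⊗[A] M)) := by
    intro z hz
    have hd : ∀ z, f.baseChange L z - (algebraMap A L a) • z ∈
        maximalIdeal L • (⊤ : Submodule L (L ⊗[A] M)) := by
      intro z
      induction z with
      | zero => simp
      | add z w hz hw =>
        rw [map_add, smul_add, add_sub_add_comm]; exact add_mem hz hw
      | tmul l m =>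
        rw [LinearMap.baseChange_tmul, algebraMap_smul, ← TensorProduct.tmul_smul, ← TensorProduct.tmul_sub]
        refine Submodule.smul_induction_on (hf m) (fun r hr n _ => ?_) fun x y hx hy => ?_
        · rw [TensorProduct.tmul_smul, ← algebraMap_smul L r (l ⊗ₜ[A] n)]
          exact Submodule.smul_mem_smul (by
            rw [← Localization.AtPrime.map_eq_maximalIdeal]
            exact Ideal.mem_map_of_mem _ hr) Submodule.mem_top
        · rw [TensorProduct.tmul_add]; exact add_mem hx hy
    have h1 : (algebraMap A L a) • z ∈ maximalIdeal L • (⊤ : Submodule L (L ⊗[A] M)) := by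
      simpa using sub_mem hz (hd z)
    obtain ⟨u, hu⟩ := IsLocalization.map_units L (⟨a, ha⟩ : t.primeCompl)
    rw [← hu] at h1
    simpa [smul_smul] using Submodule.smul_mem _ ((u⁻¹ : Lˣ) : L) h1
  have key := injective_lTensor_of_projective (f.baseChange L) hmod t'.ResidueField
  have hnat : ∀ y : t'.ResidueField ⊗[L] (L ⊗[A] M),
      AlgebraTensorModule.cancelBaseChange A L L t'.ResidueField M ((f.baseChange L).lTensor _ y) =
        f.lTensor _ (AlgebraTensorModule.cancelBaseChange A L L t'.ResidueField M y) := by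
    intro y
    induction y with
    | zero => simp
    | add a b ha hb => simp only [map_add, ha, hb]
    | tmul c z =>
      induction z with
      | zero => simp
      | add a b ha hb => simp only [TensorProduct.tmul_add, map_add, ha, hb]
      | tmul l m => simp
  rw [injective_iff_map_eq_zero]
  intro x hx
  obtain ⟨y, rfl⟩ := (AlgebraTensorModule.cancelBaseChange A L L t'.ResidueField M).surjective x
  rw [← hnat, LinearEquiv.map_eq_zero_iff] at hx
  rw [key (hx.trans (map_zero _).symm), map_zero]

section Fiber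

variable {R S : Type u} [CommRing R] [CommRing S] [Algebra R S] (p : Ideal R) [p.IsPrime]
  (N : Type u) [AddCommGroup N] [Module S N] [Module R N] [IsScalarTower R S N]

theorem one_tmul_eq_zero_of_mem {n : N} (h : n ∈ p • (⊤ : Submodule R N)) :
    (1 : p.ResidueField) ⊗ₜ[R] n = 0 := by
  induction h using Submodule.smul_induction_on' with
  | smul r hr m _ =>
    rw [tmul_smul, smul_tmul', ← Algebra.algebraMap_eq_smul_one,
      Ideal.algebraMap_residueField_eq_zero.2 hr, zero_tmul]
  | add a _ b _ ha hb => rw [tmul_add, ha, hb, add_zero]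

theorem toFiberMod_eq_zero_of_tmul {n : N} (h : (1 : p.ResidueField) ⊗ₜ[R] n = 0) :
    FlatCA.toFiberMod p (S := S) N n = 0 := by
  let g : p.ResidueField ⊗[R] N →+ (p.Fiber S) ⊗[S] N :=
    TensorProduct.liftAddHom
      { toFun := fun c =>
          { toFun := fun m => (c ⊗ₜ[R] (1 : S) : p.Fiber S) ⊗ₜ[S] m
            map_zero' := tmul_zero _ _
            map_add' := fun a b => tmul_add _ a b }
        map_zero' := by ext m; simp
        map_add' := fun a b => by ext m; simp [add_tmul] }
      fun r c m => by
        show ((r • c) ⊗ₜ[R] (1 : S) : p.Fiber S) ⊗ₜ[S] m = (c ⊗ₜ[R] (1 : S) : p.Fiber S) ⊗ₜ[S] (r • m)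
        rw [← algebraMap_smul S r m, ← smul_tmul, algebraMap_smul]
        rfl
  have := congrArg g h
  rw [map_zero] at this
  exact this

/-- If `s` stays injective on `κ(p) ⊗_R N`, it is regular on the fibre module. -/
theorem isSMulRegular_fiberMod (s : S)
    (h : Function.Injective (((LinearMap.lsmul S N s).restrictScalars R).lTensor p.ResidueField)) :
    IsSMulRegular (FlatCA.fiberMod p S N) s := by
  rw [isSMulRegular_iff_right_eq_zero_of_smul]
  intro x hx
  have := AssFiber.isLocalizedModule_quotToFiber p (S := S) N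
  obtain ⟨⟨a, σ⟩, ha⟩ := IsLocalizedModule.surj (Algebra.algebraMapSubmonoid S p.primeCompl)
    (AssFiber.quotToFiber p (S := S) N) x
  obtain ⟨n, rfl⟩ := Submodule.Quotient.mk_surjective _ a
  have ha' : (σ : S) • x = FlatCA.toFiberMod p (S := S) N n := ha
  have h0 : FlatCA.toFiberMod p (S := S) N (s • n) = 0 := by
    rw [map_smul, ← ha', smul_comm, hx, smul_zero]
  obtain ⟨r, hr, hmem⟩ := AssFiber.exists_smul_mem_of_toFiberMod_eq_zero p (S := S) N h0
  have h1 : (1 : p.ResidueField) ⊗ₜ[R] (s • (algebraMap R S r • n)) = 0 := by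
    rw [smul_comm]
    exact one_tmul_eq_zero_of_mem p N (AssFiber.mem_smul_top_of_mem_pN p N hmem)
  have h2 : (1 : p.ResidueField) ⊗ₜ[R] (algebraMap R S r • n) = 0 :=
    h (by rw [LinearMap.lTensor_tmul, map_zero]; exact h1)
  have h3 := toFiberMod_eq_zero_of_tmul p (S := S) N h2
  rw [map_smul, ← ha'] at h3
  have hinj : ∀ τ : Algebra.algebraMapSubmonoid S p.primeCompl, ∀ y : FlatCA.fiberMod p S N,
      (τ : S) • y = 0 → y = 0 := fun τ y hy =>
    ((Module.End.isUnit_iff _).1 (IsLocalizedModule.map_units (AssFiber.quotToFiber p (S := S) N) τ)).1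
      (by simpa using hy)
  exact hinj σ x (hinj ⟨_, r, hr, rfl⟩ _ h3)

end Fiber

end Groth.Agent.FlatPureHx

namespace Groth.Agent.FlatPureHx

/-- Base change of a module along a pushout square, restricted to the base rings. -/
theorem isBaseChange_of_isPushout {A B : Type u} [CommRing A] [CommRing B] [Algebra A B]
    {A' B' : Type u} [CommRing A'] [CommRing B'] [Algebra A A'] [Algebra B B']
    [Algebra A' B'] [Algebra A B'] [IsScalarTower A B B'] [IsScalarTower A A' B']
    [h : Algebra.IsPushout A B A' B'] {N N' : Type u} [AddCommGroup N] [Module B N] [Module A N]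
    [IsScalarTower A B N] [AddCommGroup N'] [Module B' N'] [Module B N'] [IsScalarTower B B' N']
    [Module A' N'] [IsScalarTower A' B' N'] [Module A N'] [IsScalarTower A A' N']
    [IsScalarTower A B N'] {g : N →ₗ[B] N'} (hg : IsBaseChange B' g) :
    IsBaseChange A' (g.restrictScalars A) := by
  haveI := h.symm
  refine IsBaseChange.of_equiv
    ((Algebra.IsPushout.cancelBaseChange A A' B B' N).symm.trans (hg.equiv.restrictScalars A')) fun n => ?_
  rw [LinearEquiv.trans_apply, Algebra.IsPushout.cancelBaseChange_symm_tmul, map_one,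
    LinearEquiv.restrictScalars_apply, IsBaseChange.equiv_tmul, one_smul]
  rfl

end Groth.Agent.FlatPureHx
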